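import Cfsg.Agent.H74.SpF

/-!
# S5719, `PSp_4(q)`, `q` odd: the nondegenerate planes (helper172)

* `card_hyp` : the number of hyperbolic pairs;
* `card_omega` : `q ^ 2 (q ^ 2 + 1)` involutions `inv2 B v v'` on a space of order `q ^ 4`;
* `exists_comm` : an `r`-group of isometries, `r` not dividing `q (q ^ 2 + 1)`, commutes with one of them.
-/

set_option autoImplicit false
set_option linter.unusedSectionVars false
set_option linter.style.haveILetI false

namespace Cfsg.Agent.H172.IF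

open Module Cfsg.Agent.H74.Psp

variable {F V : Type*} [Field F] [Finite F] [AddCommGroup V] [Module F V] [Finite V] {B : V →ₗ[F] V →ₗ[F] F}

/-- the number of hyperbolic pairs -/
theorem card_hyp (hB : Symp B) :
    Nat.card {p : V × V // B p.1 p.2 = 1} * Nat.card F = (Nat.card V - 1) * Nat.card V := by
  classical
  have := Fintype.ofFinite V
  let e : {p : V × V // B p.1 p.2 = 1} ≃ Σ v : {v : V // v ≠ 0}, {w : V // B v w = 1} :=
    { toFun := fun p => ⟨⟨p.1.1, fun h => by have := p.2; rw [h, map_zero, LinearMap.zero_apply] at this; exact one_ne_zero this.symm⟩,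
        ⟨p.1.2, p.2⟩⟩
      invFun := fun s => ⟨(s.1.1, s.2.1), s.2.2⟩
      left_inv := fun p => rfl
      right_inv := fun s => rfl }
  have h1 : ∀ v : {v : V // v ≠ 0}, Nat.card {w : V // B v w = 1} * Nat.card F = Nat.card V := by
    intro v
    rw [← card_perp hB v.2]
    congr 1
    obtain ⟨y, hy⟩ := sep0 hB v.2
    refine Nat.card_congr ⟨fun w => ⟨w.1 - y, by rw [map_sub, w.2, hy, sub_self]⟩,
      fun w => ⟨w.1 + y, by rw [map_add, w.2, hy, zero_add]⟩, fun w => ?_, fun w => ?_⟩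
    · exact Subtype.ext (sub_add_cancel _ _)
    · exact Subtype.ext (add_sub_cancel_right _ _)
  rw [Nat.card_congr e, Nat.card_sigma, Finset.sum_mul, Finset.sum_congr rfl fun v _ => h1 v, Finset.sum_const, smul_eq_mul]
  congr 1
  rw [Finset.card_univ, Fintype.card_subtype_compl, Nat.card_eq_fintype_card]
  simp

theorem inv2_v' (hB : Symp B) {v v' : V} (h : B v v' = 1) : inv2 B v v' • v' = v' := by
  rw [inv2_smul hB h, hB.alt, skew hB v' v, h]; module

/-- the fixed vectors of `inv2` -/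
theorem eq_of_fixed (hB : Symp B) (h2 : (2 : F) ≠ 0) {v v' : V} (h : B v v' = 1) {x : V}
    (hx : inv2 B v v' • x = x) : x = B x v' • v - B x v • v' := by
  rw [inv2_smul hB h] at hx
  have h3 : (2 : F) • x = (2 : F) • (B x v' • v - B x v • v') := by
    have h4 : (2 : F) • x = x + x := two_smul F x
    rw [h4]
    nth_rewrite 1 [← hx]
    module
  have h4 := congrArg (fun y => (2 : F)⁻¹ • y) h3
  simpa only [smul_smul, inv_mul_cancel₀ h2, one_smul] using h4

theorem fixed_of_eq (hB : Symp B) {v v' : V} (h : B v v' = 1) (a b : F) :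
    inv2 B v v' • (a • v + b • v') = a • v + b • v' := by
  rw [smul_add, smul_fsmul, smul_fsmul, inv2_v hB h, inv2_v' hB h]

theorem inv2_eq (hB : Symp B) {v v' : V} (h : B v v' = 1) {a b c d : F} (hd : a * d - b * c = 1) :
    inv2 B (a • v + b • v') (c • v + d • v') = inv2 B v v' := by
  have h1 : B (a • v + b • v') (c • v + d • v') = 1 := by
    simp only [map_add, LinearMap.add_apply, map_smul, LinearMap.smul_apply, smul_eq_mul, hB.alt, h, skew hB v' v]
    linear_combination hd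
  apply Sp.ext'
  intro x
  rw [inv2_smul hB h1, inv2_smul hB h]
  simp only [map_add, map_smul, smul_eq_mul]
  match_scalars <;> first | ring1 | linear_combination (2 * B x v') * hd | linear_combination (-2 * B x v) * hd

/-- the fixed plane -/
def pl (B : V →ₗ[F] V →ₗ[F] F) (v v' : V) : Submodule F V where
  carrier := {x | inv2 B v v' • x = x}
  add_mem' := by
    intro a b ha hb
    change inv2 B v v' • (a + b) = a + b
    rw [smul_add, ha, hb]
  zero_mem' := smul_zero _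
  smul_mem' := by
    intro c x hx
    change inv2 B v v' • (c • x) = c • x
    rw [smul_fsmul, hx]

theorem mem_pl {v v' x : V} : x ∈ pl B v v' ↔ inv2 B v v' • x = x := Iff.rfl

theorem card_pl (hB : Symp B) (h2 : (2 : F) ≠ 0) {v v' : V} (h : B v v' = 1) :
    Nat.card (pl B v v') = Nat.card F ^ 2 := by
  rw [pow_two, ← Nat.card_prod]
  refine Nat.card_congr ⟨fun x => (B x.1 v', B x.1 v), fun p => ⟨p.1 • v - p.2 • v', ?_⟩, fun x => ?_, fun p => ?_⟩
  · rw [mem_pl, sub_eq_add_neg, ← neg_smul, fixed_of_eq hB h]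
  · exact Subtype.ext (eq_of_fixed hB h2 h x.2).symm
  · refine Prod.ext ?_ ?_
    · simp only [map_sub, LinearMap.sub_apply, map_smul, LinearMap.smul_apply, smul_eq_mul, hB.alt, h, mul_one, mul_zero,
        sub_zero]
    · simp only [map_sub, LinearMap.sub_apply, map_smul, LinearMap.smul_apply, smul_eq_mul, hB.alt, skew hB v' v, h]
      ring

theorem card_fib (hB : Symp B) (h2 : (2 : F) ≠ 0) {v v' : V} (h : B v v' = 1) :
    Nat.card {p : V × V // B p.1 p.2 = 1 ∧ inv2 B p.1 p.2 = inv2 B v v'} = (Nat.card F ^ 2 - 1) * Nat.card F := by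
  let BP : pl B v v' →ₗ[F] pl B v v' →ₗ[F] F := B.domRestrict₁₂ (pl B v v') (pl B v v')
  have hBP : ∀ x y : pl B v v', BP x y = B x y := fun x y => rfl
  have hv : v ∈ pl B v v' := inv2_v hB h
  have hv' : v' ∈ pl B v v' := inv2_v' hB h
  have hs : Symp BP := by
    refine ⟨fun x => hB.alt x, fun x hx => ?_⟩
    apply Subtype.ext
    rw [eq_of_fixed hB h2 h x.2]
    have e1 : B (x : V) v' = 0 := hx ⟨v', hv'⟩
    have e2 : B (x : V) v = 0 := hx ⟨v, hv⟩
    rw [e1, e2, zero_smul, zero_smul, sub_zero]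
    rfl
  have h3 := card_hyp hs
  rw [card_pl hB h2 h] at h3
  have hq : 0 < Nat.card F := Nat.card_pos
  have h4 : Nat.card {p : pl B v v' × pl B v v' // BP p.1 p.2 = 1} = (Nat.card F ^ 2 - 1) * Nat.card F := by
    apply Nat.eq_of_mul_eq_mul_right hq
    rw [h3]
    ring
  rw [← h4]
  refine Nat.card_congr ⟨fun p => ⟨(⟨p.1.1, ?_⟩, ⟨p.1.2, ?_⟩), p.2.1⟩, fun p => ⟨(p.1.1, p.1.2), p.2, ?_⟩, fun p => rfl,
    fun p => rfl⟩
  · have h5 := inv2_v hB p.2.1
    rw [p.2.2] at h5
    exact h5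
  · have h5 := inv2_v' hB p.2.1
    rw [p.2.2] at h5
    exact h5
  · have e1 := eq_of_fixed hB h2 h p.1.1.2
    have e2 := eq_of_fixed hB h2 h p.1.2.2
    have e3 : B (p.1.1 : V) (p.1.2 : V) = 1 := p.2
    change inv2 B (p.1.1 : V) (p.1.2 : V) = _
    set w : V := (p.1.1 : V) with hw
    set w' : V := (p.1.2 : V) with hw'
    have e4 : B w v' * (-B w' v) - (-B w v) * B w' v' = 1 := by
      rw [e1, e2] at e3
      simp only [map_sub, LinearMap.sub_apply, map_smul, LinearMap.smul_apply, smul_eq_mul, hB.alt, skew hB v' v, h] at e3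
      linear_combination e3
    rw [e1, e2, sub_eq_add_neg, sub_eq_add_neg, ← neg_smul, ← neg_smul]
    exact inv2_eq hB h e4

/-- **the number of the involutions `inv2`** -/
theorem card_omega (hB : Symp B) (h2 : (2 : F) ≠ 0) (hV : Nat.card V = Nat.card F ^ 4) :
    Nat.card {x : Sp B // ∃ v v', B v v' = 1 ∧ x = inv2 B v v'} = Nat.card F ^ 2 * (Nat.card F ^ 2 + 1) := by
  classical
  have h0 := card_hyp hB
  rw [hV] at h0
  let Ω := {x : Sp B // ∃ v v', B v v' = 1 ∧ x = inv2 B v v'}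
  have hq : 1 < Nat.card F := Finite.one_lt_card
  let e : {p : V × V // B p.1 p.2 = 1} ≃ Σ ω : Ω, {p : V × V // B p.1 p.2 = 1 ∧ inv2 B p.1 p.2 = ω.1} :=
    { toFun := fun p => ⟨⟨inv2 B p.1.1 p.1.2, p.1.1, p.1.2, p.2, rfl⟩, ⟨p.1, p.2, rfl⟩⟩
      invFun := fun s => ⟨s.2.1, s.2.2.1⟩
      left_inv := fun p => rfl
      right_inv := fun s => by
        obtain ⟨⟨ω, hω⟩, ⟨p, hp, hpω⟩⟩ := s
        dsimp only at hpω
        subst hpω
        rfl }
  have hΩf : Finite (Sp B) := inferInstance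
  have hΩ : Fintype Ω := Fintype.ofFinite Ω
  have h1 : ∀ ω : Ω, Nat.card {p : V × V // B p.1 p.2 = 1 ∧ inv2 B p.1 p.2 = ω.1} = (Nat.card F ^ 2 - 1) * Nat.card F := by
    rintro ⟨ω, v, v', h, rfl⟩
    exact card_fib hB h2 h
  rw [Nat.card_congr e, Nat.card_sigma, Finset.sum_congr rfl fun ω _ => h1 ω, Finset.sum_const, smul_eq_mul,
    Finset.card_univ, ← Nat.card_eq_fintype_card] at h0
  change Nat.card Ω = _
  obtain ⟨k, hk⟩ : ∃ k, Nat.card F ^ 2 = k + 1 := ⟨Nat.card F ^ 2 - 1, by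
    have : 0 < Nat.card F ^ 2 := pow_pos (by omega) 2
    omega⟩
  have hk0 : 0 < k := by
    have : 2 ^ 2 ≤ Nat.card F ^ 2 := Nat.pow_le_pow_left hq 2
    omega
  have h4 : Nat.card F ^ 4 = (k + 1) ^ 2 := by rw [← hk]; ring
  have h5 : (k + 1) ^ 2 - 1 = k * (k + 2) := by
    have : (k + 1) ^ 2 = k * (k + 2) + 1 := by ring
    omega
  rw [h4, h5, hk] at h0
  rw [hk]
  have h6 : k + 1 - 1 = k := rfl
  rw [h6] at h0
  have h7 : Nat.card Ω * (k * Nat.card F) * Nat.card F = Nat.card Ω * (k * (k + 1)) := by rw [← hk]; ring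
  rw [h7] at h0
  apply Nat.eq_of_mul_eq_mul_right (show 0 < k * (k + 1) by positivity)
  rw [h0]
  ring

/-- **an `r`-group commutes with some `inv2`** -/
theorem exists_comm (hB : Symp B) (h2 : (2 : F) ≠ 0) (hV : Nat.card V = Nat.card F ^ 4) {r : ℕ} (hr : r.Prime)
    (hr1 : ¬ r ∣ Nat.card F) (hr2 : ¬ r ∣ Nat.card F * Nat.card F + 1) {R : Subgroup (Sp B)} (hR : IsPGroup r R) :
    ∃ v v', B v v' = 1 ∧ ∀ g ∈ R, g * inv2 B v v' = inv2 B v v' * g := by
  have : Fact r.Prime := ⟨hr⟩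
  let Ω := {x : Sp B // ∃ v v', B v v' = 1 ∧ x = inv2 B v v'}
  letI : MulAction R Ω :=
    { smul := fun g x => ⟨g * x.1 * (g : Sp B)⁻¹, by
        obtain ⟨v, v', h, hx⟩ := x.2
        exact ⟨(g : Sp B) • v, (g : Sp B) • v', by rw [B_smul_smul, h], by rw [hx, conj_inv2 hB h]⟩⟩
      one_smul := fun x => Subtype.ext (by
        change ((1 : R) : Sp B) * x.1 * ((1 : R) : Sp B)⁻¹ = x.1
        simp)
      mul_smul := fun g h x => Subtype.ext (by
        change ((g * h : R) : Sp B) * x.1 * ((g * h : R) : Sp B)⁻¹ = g * (h * x.1 * (h : Sp B)⁻¹) * (g : Sp B)⁻¹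
        rw [Subgroup.coe_mul]
        group) }
  have hc := card_omega hB h2 hV
  obtain ⟨⟨x, v, v', h, rfl⟩, hx⟩ := hR.nonempty_fixed_point_of_prime_not_dvd_card Ω (by
    change ¬ r ∣ Nat.card {x : Sp B // ∃ v v', B v v' = 1 ∧ x = inv2 B v v'}
    rw [hc, pow_two]
    intro hd
    rcases (Nat.Prime.dvd_mul hr).1 hd with h | h
    · rcases (Nat.Prime.dvd_mul hr).1 h with h | h <;> exact hr1 h
    · exact hr2 h)
  refine ⟨v, v', h, fun g hg => ?_⟩
  have h3 := congrArg Subtype.val (hx ⟨g, hg⟩)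
  change g * inv2 B v v' * g⁻¹ = inv2 B v v' at h3
  rw [mul_inv_eq_iff_eq_mul] at h3
  exact h3

end Cfsg.Agent.H172.IF
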