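import Cfsg.Agent.H680.IF.EngA
import Cfsg.Agent.H999.IF.EngB
import Cfsg.Agent.S0205
import Cfsg.Agent.S0215

/-!
# S5719: the point stabiliser of 2-rank one (helper172)

`rank_one` : if two commuting involutions of `A` are equal then `A` is the centraliser of an involution or has a
`Γ`-invariant elementary abelian `r`-subgroup, `r` odd (Glauberman, Feit-Thompson).
-/

set_option autoImplicit false
set_option linter.unusedSectionVars false

namespace Cfsg.Agent.H172.IF

open Subgroup Cfsg.Agent.H209.Fxy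

open scoped commutatorElement

variable {T : Type*} [Group T] [Finite T] {A : Subgroup T} {Γ : Subgroup (MulAut T)}

/-- invariant subgroups of odd order -/
theorem exists_elem {N : Subgroup T} (hN : N ≤ A) (hN1 : N ≠ ⊥)
    (hodd : Odd (Nat.card N)) (hinv : ∀ σ ∈ Γ, ∀ x ∈ N, σ x ∈ N) :
    ∃ (r : ℕ) (R : Subgroup T), r.Prime ∧ Odd r ∧ R ≤ A ∧ R ≠ ⊥ ∧ (∀ x ∈ R, x ^ r = 1) ∧
      (∀ x ∈ R, ∀ y ∈ R, x * y = y * x) ∧ ∀ σ ∈ Γ, ∀ x ∈ R, σ x ∈ R := by
  classical
  -- a minimal invariant subgroup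
  obtain ⟨K, ⟨hKN, hK1, hKinv⟩, hmin⟩ : ∃ K : Subgroup T, (K ≤ N ∧ K ≠ ⊥ ∧ ∀ σ ∈ Γ, ∀ x ∈ K, σ x ∈ K) ∧
      ∀ L : Subgroup T, L < K → ¬ (L ≤ N ∧ L ≠ ⊥ ∧ ∀ σ ∈ Γ, ∀ x ∈ L, σ x ∈ L) :=
    WellFounded.has_min (r := fun L K : Subgroup T => L < K) wellFounded_lt
      {K : Subgroup T | K ≤ N ∧ K ≠ ⊥ ∧ ∀ σ ∈ Γ, ∀ x ∈ K, σ x ∈ K} ⟨N, le_refl N, hN1, hinv⟩
      |> fun ⟨K, hK, h⟩ => ⟨K, hK, fun L hL hL' => h L hL' hL⟩
  have hKo : Odd (Nat.card K) := hodd.of_dvd_nat (Subgroup.card_dvd_of_le hKN)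
  have hsol : Group.IsSolvable K := S0205.result hKo
  have hnt : Nontrivial K := (Subgroup.nontrivial_iff_ne_bot K).2 hK1
  -- it is abelian
  have hcomm : ⁅K, K⁆ = ⊥ := by
    by_contra hne
    have h1 : ⁅K, K⁆ ≤ K := Subgroup.commutator_le_self K
    have h2 : ⁅K, K⁆ ≠ K := by
      intro h
      have h3 := Group.IsSolvable.commutator_lt_top_of_nontrivial (G := K)
      apply h3.ne
      apply Subgroup.map_injective K.subtype_injective
      rw [commutator_def, Subgroup.map_commutator, ← MonoidHom.range_eq_map, Subgroup.range_subtype, h]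
    refine hmin _ (lt_of_le_of_ne h1 h2) ⟨h1.trans hKN, hne, fun σ hσ x hx => ?_⟩
    have h3 : ⁅K, K⁆.map (σ : MulAut T).toMonoidHom ≤ ⁅K, K⁆ := by
      rw [Subgroup.map_commutator]
      exact Subgroup.commutator_mono (Subgroup.map_le_iff_le_comap.2 fun y hy => hKinv σ hσ y hy)
        (Subgroup.map_le_iff_le_comap.2 fun y hy => hKinv σ hσ y hy)
    exact h3 ⟨x, hx, rfl⟩
  have hab : ∀ x ∈ K, ∀ y ∈ K, x * y = y * x := by
    intro x hx y hy
    have h1 : ⁅x, y⁆ ∈ ⁅K, K⁆ := Subgroup.commutator_mem_commutator hx hy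
    rw [hcomm, Subgroup.mem_bot, commutatorElement_eq_one_iff_mul_comm] at h1
    exact h1
  -- a prime
  obtain ⟨r, hr, hrK⟩ : ∃ r : ℕ, r.Prime ∧ r ∣ Nat.card K :=
    Nat.exists_prime_and_dvd (by
      have := Finite.one_lt_card (α := K)
      omega)
  have : Fact r.Prime := ⟨hr⟩
  let R : Subgroup T :=
    { carrier := {x | x ∈ K ∧ x ^ r = 1}
      one_mem' := ⟨K.one_mem, one_pow r⟩
      mul_mem' := fun {a b} ha hb => ⟨K.mul_mem ha.1 hb.1, by
        have h1 : Commute a b := hab a ha.1 b hb.1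
        rw [h1.mul_pow, ha.2, hb.2, one_mul]⟩
      inv_mem' := fun {a} ha => ⟨K.inv_mem ha.1, by rw [inv_pow, ha.2, inv_one]⟩ }
  refine ⟨r, R, hr, hKo.of_dvd_nat hrK, fun x hx => hN (hKN hx.1), ?_, fun x hx => hx.2,
    fun x hx y hy => hab x hx.1 y hy.1, fun σ hσ x hx => ⟨hKinv σ hσ x hx.1, ?_⟩⟩
  · obtain ⟨x, hx⟩ := exists_prime_orderOf_dvd_card' r hrK
    intro h
    have h1 : (x : T) ∈ R := ⟨x.2, by rw [← Subgroup.coe_pow, ← hx, pow_orderOf_eq_one, Subgroup.coe_one]⟩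
    rw [h, Subgroup.mem_bot] at h1
    have h2 : x = 1 := Subtype.ext h1
    rw [h2, orderOf_one] at hx
    exact hr.one_lt.ne hx
  · rw [← map_pow, hx.2, map_one]

open Cfsg.Agent.Lib.Cores in
/-- **a point stabiliser in which two commuting involutions are equal** -/
theorem rank_one [IsSimpleGroup T] (h : IF A Γ) (hna : ∃ a b : T, a * b ≠ b * a)
    (hone : ∀ s ∈ A, ∀ t ∈ A, orderOf s = 2 → orderOf t = 2 → s * t = t * s → s = t) {t : T} (ht : t ∈ A)
    (ht2 : orderOf t = 2) :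
    (∀ x : T, x * t = t * x → x ∈ A) ∨
    ∃ (r : ℕ) (R : Subgroup T), r.Prime ∧ Odd r ∧ R ≤ A ∧ R ≠ ⊥ ∧ (∀ x ∈ R, x ^ r = 1) ∧
      (∀ x ∈ R, ∀ y ∈ R, x * y = y * x) ∧ ∀ σ ∈ Γ, ∀ x ∈ R, σ x ∈ R := by
  classical
  let N : Subgroup T := (pPrimeCore 2 A).map A.subtype
  have hNA : N ≤ A := Subgroup.map_subtype_le _
  have hNc : Nat.card N = Nat.card (pPrimeCore 2 A) :=
    (Nat.card_congr ((pPrimeCore 2 A).equivMapOfInjective _ A.subtype_injective).toEquiv).symm
  have hNo : Odd (Nat.card N) := by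
    rw [hNc]
    exact Nat.coprime_two_right.1 (pPrimeCore_coprime 2)
  -- `N` is invariant
  have hNinv : ∀ σ ∈ Γ, ∀ x ∈ N, σ x ∈ N := by
    intro σ hσ x hx
    let e : A ≃* A :=
      { toFun := fun a => ⟨σ a, (h.inv σ hσ a).2 a.2⟩
        invFun := fun a => ⟨σ⁻¹ a, (h.inv σ⁻¹ (Γ.inv_mem hσ) a).2 a.2⟩
        left_inv := fun a => Subtype.ext (MulAut.inv_apply_self T σ a)
        right_inv := fun a => Subtype.ext (MulAut.apply_inv_self T σ a)
        map_mul' := fun a b => Subtype.ext (map_mul σ (a : T) b) }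
    obtain ⟨a, ha, rfl⟩ := hx
    have h1 : e a ∈ pPrimeCore 2 A := by
      rw [← map_equiv_pPrimeCore e 2]
      exact ⟨a, ha, rfl⟩
    exact ⟨e a, h1, rfl⟩
  by_cases hN1 : N = ⊥
  · left
    -- `t` is central in `A`
    have hcore : pPrimeCore 2 A = ⊥ := (Subgroup.map_eq_bot_iff_of_injective _ A.subtype_injective).1 hN1
    have : Fact (Nat.Prime 2) := ⟨Nat.prime_two⟩
    let u : A := ⟨t, ht⟩
    have hu : orderOf u = 2 := by rw [Subgroup.orderOf_mk, ht2]
    have h2g : IsPGroup 2 (Subgroup.zpowers u) := IsPGroup.of_card (n := 1) (by rw [Nat.card_zpowers, hu, pow_one])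
    obtain ⟨P, hP⟩ := h2g.exists_le_sylow
    have huP : u ∈ P := hP (Subgroup.mem_zpowers u)
    -- an involution in the centre of `P`
    have hPnt : Nontrivial P := by
      rw [Subgroup.nontrivial_iff_ne_bot]
      intro hb
      have : u ∈ (P : Subgroup A) := huP
      rw [hb, Subgroup.mem_bot] at this
      rw [this, orderOf_one] at hu
      omega
    have hcnt : Nontrivial (Subgroup.center P) := P.2.center_nontrivial
    obtain ⟨z, hz⟩ : ∃ z : Subgroup.center P, orderOf z = 2 := by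
      have h3 : IsPGroup 2 (Subgroup.center P) := P.2.to_subgroup _
      obtain ⟨k, hk, h4⟩ := h3.nontrivial_iff_card.1 hcnt
      exact exists_prime_orderOf_dvd_card' 2 (by rw [h4]; exact dvd_pow_self 2 (by omega))
    have hiso : ∀ w : A, w ∈ P → orderOf w = 2 → w = ((z : P) : A) := by
      intro w hw hw2
      have h3 : (⟨w, hw⟩ : P) * z = z * ⟨w, hw⟩ := Subgroup.mem_center_iff.1 z.2 ⟨w, hw⟩
      have h4 : w * ((z : P) : A) = ((z : P) : A) * w := congrArg Subtype.val h3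
      have h5 : (w : T) * (((z : P) : A) : T) = (((z : P) : A) : T) * w := congrArg Subtype.val h4
      have h6 := hone w w.2 (((z : P) : A) : T) ((z : P) : A).2 (by rw [Subgroup.orderOf_coe, hw2])
        (by rw [Subgroup.orderOf_coe, Subgroup.orderOf_coe, Subgroup.orderOf_coe, hz]) h5
      exact Subtype.ext h6
    obtain ⟨M, hMn, hMo, hM⟩ := S0215.result P u hu huP (by
      intro g hg
      have hg2 : orderOf (g * u * g⁻¹) = 2 := by
        rw [← hu]
        exact orderOf_injective (MulAut.conj g).toMonoidHom (MulAut.conj g).injective u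
      rw [hiso _ hg hg2, hiso u huP hu])
    have hMb : M = ⊥ := by
      rw [eq_bot_iff, ← hcore]
      exact le_pPrimeCore hMn (Nat.coprime_two_right.2 hMo)
    have hcen : ∀ a ∈ A, a * t = t * a := by
      intro a ha
      have h3 := hM ⟨a, ha⟩
      rw [hMb, Subgroup.mem_bot] at h3
      have h4 : t * a * t⁻¹ * a⁻¹ = 1 := congrArg Subtype.val h3
      rw [mul_inv_eq_one, mul_inv_eq_iff_eq_mul] at h4
      exact h4.symm
    -- `σ t = t`
    have hfix : ∀ σ ∈ Γ, σ t = t := by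
      intro σ hσ
      have h3 : σ t ∈ A := (h.inv σ hσ t).2 ht
      refine hone _ h3 t ht ?_ ht2 (hcen _ h3)
      rw [MulEquiv.orderOf_eq, ht2]
    have hle : A ≤ Subgroup.centralizer ({t} : Set T) := fun a ha =>
      Subgroup.mem_centralizer_singleton_iff.2 (hcen a ha)
    rcases h.max _ hle (fun σ hσ b hb => by
      rw [Subgroup.mem_centralizer_singleton_iff] at hb ⊢
      have h3 := congrArg σ hb
      rwa [map_mul, map_mul, hfix σ hσ] at h3) with h3 | h3
    · intro x hx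
      rw [← h3]
      exact Subgroup.mem_centralizer_singleton_iff.2 hx
    · exfalso
      have h4 : t = 1 := H999.IFB.center_of hna fun x => by
        have : x ∈ Subgroup.centralizer ({t} : Set T) := by rw [h3]; trivial
        exact (Subgroup.mem_centralizer_singleton_iff.1 this).symm
      rw [h4, orderOf_one] at ht2
      omega
  · right
    exact exists_elem hNA hN1 hNo hNinv

end Cfsg.Agent.H172.IF
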