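import Cfsg.Agent.H804.IF.P4Inv
import Cfsg.Agent.H172.IF.Plane
import Cfsg.Agent.H172.IF.Red

/-!
# S5719, `PSp_4(q)`, `q` odd, rank one: lifts of elementary abelian groups of odd order (helper172)

* `hat π r R` : the elements `g` with `π g ∈ R`, `g ^ r = 1`;
* `semi_kill` : the case of the characteristic (automorphisms of `T` are semilinear);
* `plane_kill` : `r` does not divide `q (q ^ 2 + 1)`;
* `cent_kill` : `A` contains the centraliser of an involution.
-/

set_option autoImplicit false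
set_option linter.unusedSectionVars false

namespace Cfsg.Agent.H172.IF

open Subgroup Module Cfsg.Agent.H74.Psp Cfsg.Agent.H209.Fxy Cfsg.Agent.H804.P4

/-- automorphisms are induced by bijections of the space -/
def SemiAut {F V T : Type*} [Field F] [AddCommGroup V] [Module F V] [Group T] {B : V →ₗ[F] V →ₗ[F] F}
    (π : Sp B →* T) : Prop :=
  ∀ σ : MulAut T, ∃ g : V ≃+ V, ∀ h₀ : Sp B, ∃ h₁ : Sp B, (∀ v, h₁ • g v = g (h₀ • v)) ∧ σ (π h₀) = π h₁

variable {F V T : Type} [Field F] [Finite F] [AddCommGroup V] [Module F V] [Finite V] [Group T] [Finite T]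
  {B : V →ₗ[F] V →ₗ[F] F} {π : Sp B →* T} {A : Subgroup T} {Γ : Subgroup (MulAut T)} {r : ℕ} {R : Subgroup T}

/-- elementary abelian groups of odd order -/
structure Ea (r : ℕ) (R : Subgroup T) : Prop where
  prime : r.Prime
  odd : Odd r
  exp : ∀ x ∈ R, x ^ r = 1
  comm : ∀ x ∈ R, ∀ y ∈ R, x * y = y * x

theorem neg_pow_odd (hr : Odd r) {g : Sp B} (hg : g ^ r = 1) : (negOne B * g) ^ r = negOne B := by
  have h1 : Commute (negOne B) g := negOne_comm g
  obtain ⟨k, rfl⟩ := hr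
  rw [h1.mul_pow, hg, mul_one, pow_succ, pow_mul, pow_two, negOne_mul_self, one_pow, one_mul]

/-- the lifts commute -/
theorem comm_lift (C : Ctx π) (hr : Odd r) {g h : Sp B} (hh : h ^ r = 1) (hc : π g * π h = π h * π g) :
    g * h = h * g := by
  rw [← map_mul, ← map_mul] at hc
  rcases C.eq_iff.1 hc with h1 | h1
  · exact h1
  · exfalso
    have h2 : g * h * g⁻¹ = negOne B * h := by rw [h1]; group
    have h3 : (g * h * g⁻¹) ^ r = 1 := by rw [conj_pow, hh, mul_one, mul_inv_cancel]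
    rw [h2, neg_pow_odd hr hh] at h3
    exact C.negOne_ne h3

/-- the lifts of odd order -/
def hat (C : Ctx π) (E : Ea r R) : Subgroup (Sp B) where
  carrier := {g | π g ∈ R ∧ g ^ r = 1}
  one_mem' := ⟨by rw [map_one]; exact R.one_mem, one_pow r⟩
  mul_mem' := by
    rintro a b ⟨ha, ha'⟩ ⟨hb, hb'⟩
    refine ⟨by rw [map_mul]; exact R.mul_mem ha hb, ?_⟩
    have h1 : Commute a b := comm_lift C E.odd hb' (E.comm _ ha _ hb)
    rw [h1.mul_pow, ha', hb', one_mul]
  inv_mem' := by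
    rintro a ⟨ha, ha'⟩
    exact ⟨by rw [map_inv]; exact R.inv_mem ha, by rw [inv_pow, ha', inv_one]⟩

theorem mem_hat {C : Ctx π} {E : Ea r R} {g : Sp B} : g ∈ hat C E ↔ π g ∈ R ∧ g ^ r = 1 := Iff.rfl

theorem exists_hat (C : Ctx π) (E : Ea r R) {y : T} (hy : y ∈ R) : ∃ g ∈ hat C E, π g = y := by
  obtain ⟨g, rfl⟩ := C.surj y
  have h1 : π (g ^ r) = 1 := by rw [map_pow, E.exp _ hy]
  rcases C.ker _ h1 with h2 | h2
  · exact ⟨g, ⟨hy, h2⟩, rfl⟩
  · refine ⟨negOne B * g, ⟨by rw [map_mul, C.neg, one_mul]; exact hy, ?_⟩, by rw [map_mul, C.neg, one_mul]⟩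
    have h3 : Commute (negOne B) g := negOne_comm g
    obtain ⟨k, hk⟩ := E.odd
    rw [h3.mul_pow, h2]
    nth_rewrite 1 [hk]
    rw [pow_succ, pow_mul, pow_two, negOne_mul_self, one_pow, one_mul, negOne_mul_self]

theorem hat_comm (C : Ctx π) (E : Ea r R) {g h : Sp B} (hg : g ∈ hat C E) (hh : h ∈ hat C E) : g * h = h * g :=
  comm_lift C E.odd hh.2 (E.comm _ hg.1 _ hh.1)

theorem isPGroup_hat (C : Ctx π) (E : Ea r R) : IsPGroup r (hat C E) := by
  rintro ⟨g, hg⟩
  exact ⟨1, Subtype.ext (by rw [pow_one]; exact hg.2)⟩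

theorem hat_ne_bot (C : Ctx π) (E : Ea r R) (hR : R ≠ ⊥) : hat C E ≠ ⊥ := by
  intro h
  apply hR
  rw [eq_bot_iff]
  intro y hy
  obtain ⟨g, hg, rfl⟩ := exists_hat C E hy
  rw [h, Subgroup.mem_bot] at hg
  rw [hg, map_one]
  exact Subgroup.one_mem _

theorem hat_conj (C : Ctx π) (E : Ea r R) {a : Sp B} (ha : ∀ x ∈ R, π a * x * (π a)⁻¹ ∈ R) {g : Sp B}
    (hg : g ∈ hat C E) : a * g * a⁻¹ ∈ hat C E :=
  ⟨by rw [map_mul, map_mul, map_inv]; exact ha _ hg.1, by rw [conj_pow, hg.2, mul_one, mul_inv_cancel]⟩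

/-! ### the three cases -/

/-- `r` does not divide `q (q ^ 2 + 1)` -/
theorem plane_kill [IsSimpleGroup T] (C : Ctx π) (h : IF A Γ) (hno : ∀ v v' : V, B v v' = 1 → π (inv2 B v v') ∉ A)
    (E : Ea r R) (hRA : R ≤ A) (hR : R ≠ ⊥) (hinv : ∀ σ ∈ Γ, ∀ x ∈ R, σ x ∈ R) (hr1 : ¬ r ∣ Nat.card F)
    (hr2 : ¬ r ∣ Nat.card F * Nat.card F + 1) : False := by
  obtain ⟨v, v', hv, hc⟩ := exists_comm C.hB C.h2 C.hV E.prime hr1 hr2 (isPGroup_hat C E)
  apply hno v v' hv
  apply H680.Fxy.IF.norm h hRA hinv hR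
  intro k hk
  obtain ⟨g, hg, rfl⟩ := exists_hat C E hk
  rw [← map_inv, ← map_mul, ← map_mul, ← hc g hg, mul_inv_cancel_right]
  exact hk

/-- `A` contains the centraliser of an involution -/
theorem cent_kill (C : Ctx π) (hno : ∀ v v' : V, B v v' = 1 → π (inv2 B v v') ∉ A) {j : Sp B} (hj : j * j = negOne B)
    (hA : ∀ x : T, x * π j = π j * x → x ∈ A) : False := by
  obtain ⟨v, v', h1, h2, h3, h4⟩ := exists_pair C.hB C.h2 C.hV hj
  apply hno v v' h1
  apply hA
  rw [← map_mul, ← map_mul, C.eq_iff]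
  right
  have hjj := sq_iff.1 hj
  have e1 : B (j • v) (j • v') = 1 := by rw [B_smul_smul, h1]
  have e2 : B v' (j • v) = 0 := by rw [sym C.hB hj, h3]
  have e3 : inv2 B v v' • v' = v' := inv2_v' C.hB h1
  apply Sp.ext'
  intro z
  obtain ⟨a, b, c, d, rfl⟩ := four C.hB C.hV h1 e1 h2 h3 e2 h4 z
  simp only [mul_smul, smul_add', smul_fsmul, hjj, negOne_smul, inv2_v C.hB h1, e3, inv2_orth C.hB h1 h2 e2,
    inv2_orth C.hB h1 h3 h4, smul_neg', neg_neg]

/-- the characteristic -/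
theorem semi_kill [IsSimpleGroup T] (C : Ctx π) (h : IF A Γ) (hno : ∀ v v' : V, B v v' = 1 → π (inv2 B v v') ∉ A)
    (hsemi : SemiAut π) (E : Ea r R) (hR : R ≠ ⊥) (hinv : ∀ σ ∈ Γ, ∀ x ∈ R, σ x ∈ R)
    (hr1 : r ∣ Nat.card F) : False := by
  have : Fact r.Prime := ⟨E.prime⟩
  have hAR : ∀ a ∈ A, ∀ x ∈ R, a * x * a⁻¹ ∈ R := fun a ha x hx => hinv _ ((h.conj a).2 ha) x hx
  -- the fixed vectors
  let U : Submodule F V :=
    { carrier := {v | ∀ g ∈ hat C E, g • v = v}
      add_mem' := fun {a b} ha hb g hg => by rw [smul_add', ha g hg, hb g hg]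
      zero_mem' := fun g _ => smul_zero g
      smul_mem' := fun c x hx g hg => by rw [smul_fsmul, hx g hg] }
  have hU : ∀ v, v ∈ U ↔ ∀ g ∈ hat C E, g • v = v := fun v => Iff.rfl
  -- it is not zero
  obtain ⟨u, huU, hu0⟩ : ∃ u ∈ U, u ≠ 0 := by
    have h1 : r ∣ Nat.card V := by rw [C.hV]; exact dvd_pow hr1 (by norm_num)
    obtain ⟨b, hb, hb0⟩ := (isPGroup_hat C E).exists_fixed_point_of_prime_dvd_card_of_fixed_point V h1 (a := 0)
      (fun g => smul_zero (g : Sp B))
    exact ⟨b, fun g hg => hb ⟨g, hg⟩, hb0.symm⟩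
  -- its stabiliser
  let P : Subgroup T :=
    { carrier := {y | ∀ k : Sp B, π k = y → ∀ v, v ∈ U ↔ k • v ∈ U}
      one_mem' := by
        intro k hk v
        rcases C.ker k hk with rfl | rfl
        · rw [one_smul]
        · rw [negOne_smul, neg_mem_iff]
      mul_mem' := by
        intro a b ha hb k hk v
        obtain ⟨a', ha'⟩ := C.surj a
        have h1 : π (a'⁻¹ * k) = b := by rw [map_mul, map_inv, hk, ha', inv_mul_cancel_left]
        rw [hb _ h1 v, ha a' ha', ← mul_smul, mul_inv_cancel_left]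
      inv_mem' := by
        intro a ha k hk v
        have h1 : π k⁻¹ = a := by rw [map_inv, hk, inv_inv]
        rw [ha _ h1 (k • v), inv_smul_smul] }
  have hAP : A ≤ P := by
    intro a ha k hk v
    have h1 : ∀ g ∈ hat C E, k⁻¹ * g * k ∈ hat C E := by
      intro g hg
      have h2 := hat_conj C E (a := k⁻¹) (by
        rw [map_inv, hk]
        exact hAR _ (A.inv_mem ha)) hg
      rwa [inv_inv] at h2
    have h2 : ∀ g ∈ hat C E, k * g * k⁻¹ ∈ hat C E := fun g hg => hat_conj C E (by rw [hk]; exact hAR a ha) hg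
    constructor
    · intro hv g hg
      have h3 := hv _ (h1 g hg)
      rw [mul_smul, mul_smul, inv_smul_eq_iff] at h3
      exact h3
    · intro hv g hg
      have h3 := hv _ (h2 g hg)
      rw [mul_smul, mul_smul, inv_smul_smul] at h3
      exact smul_left_cancel k h3
  have hPinv : ∀ σ ∈ Γ, ∀ y ∈ P, σ y ∈ P := by
    intro σ hσ y hy k hk w
    obtain ⟨g, hg⟩ := hsemi σ
    -- lifts
    have key : ∀ h₀ h₁ : Sp B, (∀ v, h₁ • g v = g (h₀ • v)) → h₀ ^ r = 1 → h₁ ^ r = 1 := by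
      intro h₀ h₁ h1 h2
      have h3 : ∀ n : ℕ, ∀ v, h₁ ^ n • g v = g (h₀ ^ n • v) := by
        intro n
        induction n with
        | zero => intro v; rw [pow_zero, pow_zero, one_smul, one_smul]
        | succ n ih => intro v; rw [pow_succ, mul_smul, h1, ih, pow_succ, mul_smul]
      apply Sp.ext'
      intro x
      obtain ⟨v, rfl⟩ := g.surjective x
      rw [h3, h2, one_smul, one_smul]
    have hgU : ∀ v, v ∈ U ↔ g v ∈ U := by
      intro v
      constructor
      · intro hv k' hk'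
        have h1 : σ⁻¹ (π k') ∈ R := hinv _ (Γ.inv_mem hσ) _ hk'.1
        obtain ⟨h₀, hh₀, he⟩ := exists_hat C E h1
        obtain ⟨h₁, h2, h3⟩ := hg h₀
        rw [he, MulAut.apply_inv_self] at h3
        have h4 := key h₀ h₁ h2 hh₀.2
        rcases C.eq_iff.1 h3 with h5 | h5
        · rw [h5, h2, hv h₀ hh₀]
        · exfalso
          have h6 := hk'.2
          rw [h5, neg_pow_odd E.odd h4] at h6
          exact C.negOne_ne h6
      · intro hv h₀ hh₀
        obtain ⟨h₁, h2, h3⟩ := hg h₀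
        have h4 : h₁ ∈ hat C E := ⟨by rw [← h3]; exact hinv σ hσ _ hh₀.1, key h₀ h₁ h2 hh₀.2⟩
        have h5 := hv h₁ h4
        rw [h2] at h5
        exact g.injective h5
    obtain ⟨h₀, rfl⟩ := C.surj y
    obtain ⟨h₁, h2, h3⟩ := hg h₀
    rw [h3] at hk
    obtain ⟨v, rfl⟩ := g.surjective w
    have h4 : k • g v ∈ U ↔ h₁ • g v ∈ U := by
      rcases C.eq_iff.1 hk with rfl | rfl
      · exact Iff.rfl
      · rw [mul_smul, negOne_smul, neg_mem_iff]
    rw [h4, h2, ← hgU, ← hgU]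
    exact hy h₀ rfl v
  have hP : P = A := by
    rcases h.max P hAP hPinv with h1 | h1
    · exact h1
    · exfalso
      apply hat_ne_bot C E hR
      rw [eq_bot_iff]
      intro g hg
      rw [Subgroup.mem_bot]
      apply Sp.ext'
      intro x
      rw [one_smul]
      by_cases hx : x = 0
      · rw [hx, smul_zero]
      · obtain ⟨k, hk⟩ := trans0 C.hB hu0 hx
        have h2 : π k ∈ P := by rw [h1]; trivial
        have h3 := (h2 k rfl u).1 huU
        rw [hk] at h3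
        exact h3 g hg
  -- an involution in the stabiliser
  have hinv2 : ∀ v v' : V, B v v' = 1 → (∀ x ∈ U, inv2 B v v' • x ∈ U) → False := by
    intro v v' hv hU'
    apply hno v v' hv
    rw [← hP]
    intro k hk w
    have h4 : k • w ∈ U ↔ inv2 B v v' • w ∈ U := by
      rcases C.eq_iff.1 hk with rfl | rfl
      · exact Iff.rfl
      · rw [mul_smul, negOne_smul, neg_mem_iff]
    rw [h4]
    constructor
    · exact hU' w
    · intro h5
      have h6 := hU' _ h5
      rwa [← mul_smul, inv2_mul_self C.hB hv, one_smul] at h6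
  by_cases hiso : ∃ w ∈ U, B u w ≠ 0
  · obtain ⟨w, hw, huw⟩ := hiso
    refine hinv2 u ((B u w)⁻¹ • w) (by rw [map_smul, smul_eq_mul, inv_mul_cancel₀ huw]) ?_
    intro x hx
    rw [inv2_smul C.hB (by rw [map_smul, smul_eq_mul, inv_mul_cancel₀ huw])]
    exact U.sub_mem (U.add_mem (U.neg_mem hx) (U.smul_mem _ huU)) (U.smul_mem _ (U.smul_mem _ hw))
  · push Not at hiso
    obtain ⟨v', hv'⟩ := sep0 C.hB hu0
    refine hinv2 u v' hv' ?_
    intro x hx
    rw [inv2_smul C.hB hv', orth_symm C.hB (hiso x hx), mul_zero, zero_smul, sub_zero]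
    exact U.add_mem (U.neg_mem hx) (U.smul_mem _ huU)

end Cfsg.Agent.H172.IF
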