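import Cfsg.Agent.H172.Cov.Lin
import Cfsg.Agent.H74.SpF

/-!
# S5719, `PSp_4(q)`, `q` odd, rank one: isometries of order dividing `q ^ 2 + 1` (helper172)

* `irr` : an element of prime order `r`, `r` primitive divisor of `q ^ 4 - 1`, is irreducible on a space of dimension 4;
* `exists_poly`, `adj`, `frob` : its centraliser;
* `card_cent` : at most `q ^ 2 + 1` isometries commute with it;
* `card_norm` : a group of isometries conjugating `x` into its centraliser has at most `4 (q ^ 2 + 1)` elements.
-/

set_option autoImplicit false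
set_option linter.unusedSectionVars false

namespace Cfsg.Agent.H172.IF

open Module Polynomial Cfsg.Agent.H74.Psp
open Cfsg.Agent.H172.Cov (Pr)

section lin

variable {F V : Type*} [Field F] [Finite F] [AddCommGroup V] [Module F V] [FiniteDimensional F V]

theorem irr {x : Module.End F V} {r : ℕ} (P : Pr (Nat.card F) r 4) (hx : x ^ r = 1) (hx1 : x ≠ 1) (hd : finrank F V = 4)
    {W : Submodule F V} (hW : ∀ w ∈ W, x w ∈ W) : W = ⊥ ∨ W = ⊤ := by
  obtain ⟨h1, h2⟩ := P.tot hx
  have h3 := Cov.range_pos hx1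
  rw [hd] at h1
  have h4 : finrank F (LinearMap.ker (x - 1)) = 0 := by omega
  have h5 : LinearMap.ker (x - 1) = ⊥ := Submodule.finrank_eq_zero.1 h4
  have h6 : 4 ∣ finrank F W := P.dvd_free hx hW fun w _ hw => by
    have : w ∈ LinearMap.ker (x - 1) := by
      rw [LinearMap.mem_ker, LinearMap.sub_apply, Module.End.one_apply, hw, sub_self]
    rw [h5] at this
    exact (Submodule.mem_bot F).1 this
  have h7 : finrank F W ≤ 4 := hd ▸ Submodule.finrank_le W
  have h8 : finrank F W = 0 ∨ finrank F W = 4 := by omega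
  rcases h8 with h | h
  · exact Or.inl (Submodule.finrank_eq_zero.1 h)
  · exact Or.inr (Submodule.eq_top_of_finrank_eq (h.trans hd.symm))

theorem exists_poly {x : Module.End F V} (hnt : Nontrivial V)
    (hirr : ∀ W : Submodule F V, (∀ w ∈ W, x w ∈ W) → W = ⊥ ∨ W = ⊤) {g : Module.End F V} (hg : g * x = x * g) :
    ∃ P : F[X], g = aeval x P := by
  obtain ⟨v, hv⟩ := exists_ne (0 : V)
  let W : Submodule F V := LinearMap.range ((LinearMap.applyₗ (R := F) v).comp (aeval x : F[X] →ₐ[F] Module.End F V).toLinearMap)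
  have hWm : ∀ w, w ∈ W ↔ ∃ P : F[X], aeval x P v = w := fun w => Iff.rfl
  have h1 : W = ⊤ := by
    refine (hirr W ?_).resolve_left ?_
    · intro w hw
      obtain ⟨P, rfl⟩ := (hWm w).1 hw
      rw [hWm]
      refine ⟨X * P, ?_⟩
      rw [map_mul, aeval_X, Module.End.mul_apply]
    · intro h
      have h2 : v ∈ W := (hWm v).2 ⟨1, by rw [map_one, Module.End.one_apply]⟩
      rw [h] at h2
      exact hv ((Submodule.mem_bot F).1 h2)
  obtain ⟨P, hP⟩ := (hWm (g v)).1 (by rw [h1]; trivial)
  refine ⟨P, ?_⟩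
  have h2 : LinearMap.ker (g - aeval x P) = ⊤ := by
    refine (hirr _ ?_).resolve_left ?_
    · intro w hw
      rw [LinearMap.mem_ker, LinearMap.sub_apply, sub_eq_zero] at hw ⊢
      have h3 : g (x w) = x (g w) := congrArg (fun f : Module.End F V => f w) hg
      have h4 : aeval x P (x w) = x (aeval x P w) := by
        have h5 : aeval x P * x = x * aeval x P := by
          have h6 : aeval x (P * X) = aeval x (X * P) := by rw [mul_comm]
          rwa [map_mul, map_mul, aeval_X] at h6
        exact congrArg (fun f : Module.End F V => f w) h5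
      rw [h3, h4, hw]
    · intro h
      have h3 : v ∈ LinearMap.ker (g - aeval x P) := by
        rw [LinearMap.mem_ker, LinearMap.sub_apply, hP, sub_self]
      rw [h] at h3
      exact hv ((Submodule.mem_bot F).1 h3)
  apply LinearMap.ext
  intro w
  have h3 : w ∈ LinearMap.ker (g - aeval x P) := by rw [h2]; trivial
  rw [LinearMap.mem_ker, LinearMap.sub_apply, sub_eq_zero] at h3
  exact h3

/-- the polynomials in `x` form a domain -/
theorem aeval_mul_ne {x : Module.End F V}
    (hirr : ∀ W : Submodule F V, (∀ w ∈ W, x w ∈ W) → W = ⊥ ∨ W = ⊤) {P Q : F[X]} (h : aeval x P * aeval x Q = 0) :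
    aeval x P = 0 ∨ aeval x Q = 0 := by
  have h1 : ∀ w ∈ LinearMap.ker (aeval x P), x w ∈ LinearMap.ker (aeval x P) := by
    intro w hw
    rw [LinearMap.mem_ker] at hw ⊢
    have h5 : aeval x P * x = x * aeval x P := by
      have h6 : aeval x (P * X) = aeval x (X * P) := by rw [mul_comm]
      rwa [map_mul, map_mul, aeval_X] at h6
    have h6 : aeval x P (x w) = x (aeval x P w) := congrArg (fun f : Module.End F V => f w) h5
    rw [h6, hw, map_zero]
  rcases hirr _ h1 with h2 | h2
  · right
    apply LinearMap.ext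
    intro w
    have h3 : aeval x Q w ∈ LinearMap.ker (aeval x P) := by
      rw [LinearMap.mem_ker]
      exact congrArg (fun f : Module.End F V => f w) h
    rw [h2] at h3
    exact (Submodule.mem_bot F).1 h3
  · left
    exact LinearMap.ker_eq_top.1 h2

/-- the ring of the polynomials in `x` -/
theorem isDomain_quot {x : Module.End F V} (hnt : Nontrivial V)
    (hirr : ∀ W : Submodule F V, (∀ w ∈ W, x w ∈ W) → W = ⊥ ∨ W = ⊤) :
    IsDomain (F[X] ⧸ RingHom.ker (aeval x : F[X] →ₐ[F] Module.End F V)) := by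
  rw [Ideal.Quotient.isDomain_iff_prime]
  refine ⟨?_, ?_⟩
  · rw [Ne, Ideal.eq_top_iff_one, RingHom.mem_ker, map_one]
    obtain ⟨v, hv⟩ := exists_ne (0 : V)
    intro h
    exact hv (congrArg (fun f : Module.End F V => f v) h)
  · intro P Q hPQ
    rw [RingHom.mem_ker] at hPQ ⊢
    rw [RingHom.mem_ker]
    exact aeval_mul_ne hirr (by rw [← map_mul]; exact hPQ)

end lin

section isom

variable {F V : Type*} [Field F] [Finite F] [AddCommGroup V] [Module F V] [Finite V] {B : V →ₗ[F] V →ₗ[F] F}

/-- the endomorphism -/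
def en : Sp B →* Module.End F V where
  toFun g := ((g : V ≃ₗ[F] V) : V →ₗ[F] V)
  map_one' := rfl
  map_mul' _ _ := rfl

theorem en_apply (g : Sp B) (v : V) : en g v = g • v := rfl

theorem en_injective : Function.Injective (en : Sp B → Module.End F V) := by
  intro g h hgh
  apply Sp.ext'
  intro x
  rw [← en_apply, hgh, en_apply]

/-- the adjoint of a polynomial in an isometry -/
theorem adj (x : Sp B) (P : F[X]) (u v : V) : B (aeval (en x) P u) v = B u (aeval (en x⁻¹) P v) := by
  induction P using Polynomial.induction_on' generalizing u v with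
  | add p q hp hq => rw [map_add, map_add, LinearMap.add_apply, LinearMap.add_apply, map_add, LinearMap.add_apply, map_add, hp, hq]
  | monomial n a =>
    rw [aeval_monomial, aeval_monomial, Module.End.mul_apply, Module.End.mul_apply, Module.algebraMap_end_apply,
      Module.algebraMap_end_apply, map_smul, LinearMap.smul_apply, map_smul, ← map_pow, ← map_pow, en_apply, en_apply,
      B_smul_left, inv_pow]

/-- the Frobenius map -/
theorem frob (x : Module.End F V) (P : F[X]) :
    (aeval x P) ^ (Nat.card F * Nat.card F) = aeval (x ^ (Nat.card F * Nat.card F)) P := by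
  have := Fintype.ofFinite F
  rw [Nat.card_eq_fintype_card, ← map_pow, pow_mul, ← FiniteField.expand_card, ← FiniteField.expand_card, expand_aeval,
    expand_aeval, ← pow_mul]

/-- an isometry commuting with the irreducible isometry `x` of order dividing `q ^ 2 + 1` -/
theorem pow_eq_one (hnt : Nontrivial V) (hB : Symp B) {x : Sp B}
    (hirr : ∀ W : Submodule F V, (∀ w ∈ W, en x w ∈ W) → W = ⊥ ∨ W = ⊤)
    (hx : x ^ (Nat.card F * Nat.card F + 1) = 1) {g : Sp B} (hg : g * x = x * g) :
    g ^ (Nat.card F * Nat.card F + 1) = 1 := by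
  obtain ⟨P, hP⟩ := exists_poly hnt hirr (g := en g) (by rw [← map_mul, hg, map_mul])
  have h1 : x ^ (Nat.card F * Nat.card F) = x⁻¹ := by
    rw [eq_inv_iff_mul_eq_one, ← pow_succ, hx]
  have h2 : en (g ^ (Nat.card F * Nat.card F)) = aeval (en x⁻¹) P := by
    rw [map_pow, hP, frob, ← map_pow, h1]
  have h3 : g ^ (Nat.card F * Nat.card F) = g⁻¹ := by
    apply Sp.ext'
    intro v
    rw [← sub_eq_zero]
    apply hB.nd
    intro u
    rw [skew hB, map_sub, ← en_apply, h2, ← adj, ← hP, en_apply, B_smul_left, sub_self, neg_zero]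
  rw [pow_succ, h3, inv_mul_cancel]

theorem exists_root (hnt : Nontrivial V) {x : Sp B}
    (hirr : ∀ W : Submodule F V, (∀ w ∈ W, en x w ∈ W) → W = ⊥ ∨ W = ⊤) {g : Sp B} (hg : g * x = x * g) :
    ∃ y : F[X] ⧸ RingHom.ker (aeval (en x) : F[X] →ₐ[F] Module.End F V),
      Ideal.kerLiftAlg (aeval (en x) : F[X] →ₐ[F] Module.End F V) y = en g := by
  obtain ⟨P, hP⟩ := exists_poly hnt hirr (g := en g) (by rw [← map_mul, hg, map_mul])
  exact ⟨Ideal.Quotient.mk _ P, by rw [hP]; rfl⟩

/-- **the centraliser** -/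
theorem card_cent (hnt : Nontrivial V) (hB : Symp B) {x : Sp B}
    (hirr : ∀ W : Submodule F V, (∀ w ∈ W, en x w ∈ W) → W = ⊥ ∨ W = ⊤)
    (hx : x ^ (Nat.card F * Nat.card F + 1) = 1) {C : Subgroup (Sp B)} (hC : ∀ g ∈ C, g * x = x * g) :
    Nat.card C ≤ Nat.card F * Nat.card F + 1 := by
  classical
  have hdom := isDomain_quot (x := en x) hnt hirr
  choose f hf using fun g : C => exists_root hnt hirr (hC g g.2)
  have hinj := Ideal.kerLiftAlg_injective (aeval (en x) : F[X] →ₐ[F] Module.End F V)
  have hfi : Function.Injective f := by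
    intro g h hgh
    have h1 := hf g
    rw [hgh, hf h] at h1
    exact Subtype.ext (en_injective h1.symm)
  have hmem : ∀ g, f g ∈ nthRootsFinset (Nat.card F * Nat.card F + 1)
      (1 : F[X] ⧸ RingHom.ker (aeval (en x) : F[X] →ₐ[F] Module.End F V)) := by
    intro g
    rw [mem_nthRootsFinset (Nat.succ_pos _)]
    apply hinj
    rw [map_pow, hf, ← map_pow, pow_eq_one hnt hB hirr hx (hC g g.2), map_one, map_one]
  have h1 : Nat.card C ≤ Nat.card (nthRootsFinset (Nat.card F * Nat.card F + 1)
      (1 : F[X] ⧸ RingHom.ker (aeval (en x) : F[X] →ₐ[F] Module.End F V))) :=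
    Nat.card_le_card_of_injective (fun g => ⟨f g, hmem g⟩) fun g h hgh => hfi (congrArg Subtype.val hgh)
  refine h1.trans (le_of_eq_of_le (Nat.card_eq_fintype_card.trans (Fintype.card_coe _)) ?_)
  rw [nthRootsFinset]
  exact (Multiset.toFinset_card_le _).trans (card_nthRoots _ _)

/-- **the normaliser** -/
theorem card_norm (hnt : Nontrivial V) (hB : Symp B) {x : Sp B}
    (hirr : ∀ W : Submodule F V, (∀ w ∈ W, en x w ∈ W) → W = ⊥ ∨ W = ⊤)
    (hx : x ^ (Nat.card F * Nat.card F + 1) = 1) (hd : finrank F V = 4) {M : Subgroup (Sp B)}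
    (hM : ∀ g ∈ M, (g * x * g⁻¹) * x = x * (g * x * g⁻¹)) :
    Nat.card M ≤ 4 * (Nat.card F * Nat.card F + 1) := by
  classical
  have hdom := isDomain_quot (x := en x) hnt hirr
  have hMf : Fintype M := Fintype.ofFinite M
  choose f hf using fun g : M => exists_root hnt hirr (hM g g.2)
  have hinj := Ideal.kerLiftAlg_injective (aeval (en x) : F[X] →ₐ[F] Module.End F V)
  have hint : IsIntegral F (en x) := Algebra.IsIntegral.isIntegral _
  -- the values are roots of the minimal polynomial
  have hroot : ∀ g, f g ∈ ((minpoly F (en x)).aroots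
      (F[X] ⧸ RingHom.ker (aeval (en x) : F[X] →ₐ[F] Module.End F V))).toFinset := by
    intro g
    rw [Multiset.mem_toFinset, mem_aroots]
    refine ⟨minpoly.ne_zero hint, hinj ?_⟩
    rw [← aeval_algHom_apply, hf, map_zero]
    have h1 : en ((g : Sp B) * x * (g : Sp B)⁻¹) = (LinearEquiv.conjAlgEquiv F ((g : Sp B) : V ≃ₗ[F] V)) (en x) := rfl
    rw [h1, aeval_algHom_apply, minpoly.aeval, map_zero]
  have hcard : ((minpoly F (en x)).aroots
      (F[X] ⧸ RingHom.ker (aeval (en x) : F[X] →ₐ[F] Module.End F V))).toFinset.card ≤ 4 := by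
    refine (Multiset.toFinset_card_le _).trans ?_
    refine (card_roots' _).trans ?_
    refine (natDegree_map_le).trans ?_
    rw [← hd, ← LinearMap.charpoly_natDegree (en x)]
    exact natDegree_le_of_dvd (LinearMap.minpoly_dvd_charpoly _) (LinearMap.charpoly_monic _).ne_zero
  -- the fibres
  let C : Subgroup (Sp B) := Subgroup.centralizer {x}
  have hCf : Fintype C := Fintype.ofFinite C
  have hC : ∀ g ∈ C, g * x = x * g := fun g hg => (Subgroup.mem_centralizer_singleton_iff.1 hg)
  have hfib : ∀ b ∈ (Finset.univ : Finset M).image f,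
      ((Finset.univ : Finset M).filter fun g => f g = b).card ≤ Nat.card F * Nat.card F + 1 := by
    intro b hb
    obtain ⟨g₀, -, rfl⟩ := Finset.mem_image.1 hb
    refine le_trans ?_ (card_cent hnt hB hirr hx hC)
    rw [Nat.card_eq_fintype_card, ← Finset.card_univ]
    refine Finset.card_le_card_of_injOn (fun g => if h : (g₀ : Sp B)⁻¹ * g ∈ C then ⟨_, h⟩ else 1) (fun _ _ => Finset.mem_coe.2 (Finset.mem_univ _)) ?_
    have key : ∀ g : M, f g = f g₀ → (g₀ : Sp B)⁻¹ * g ∈ C := by
      intro g hg
      have h1 := hf g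
      rw [hg, hf g₀] at h1
      have h2 := en_injective h1
      rw [Subgroup.mem_centralizer_singleton_iff]
      have h3 : (g : Sp B) * x = ((g₀ : Sp B) * x * (g₀ : Sp B)⁻¹) * g := by rw [h2]; group
      rw [mul_assoc, h3]
      group
    intro g hg g' hg' h
    rw [Finset.mem_coe, Finset.mem_filter] at hg hg'
    simp only [dif_pos (key g hg.2), dif_pos (key g' hg'.2), Subtype.mk.injEq] at h
    exact Subtype.ext (mul_left_cancel h)
  have h1 := Finset.card_le_mul_card_image (Finset.univ : Finset M) _ hfib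
  have h2 : ((Finset.univ : Finset M).image f).card ≤ 4 := by
    refine (Finset.card_le_card ?_).trans hcard
    intro b hb
    obtain ⟨g, -, rfl⟩ := Finset.mem_image.1 hb
    exact hroot g
  rw [Nat.card_eq_fintype_card, ← Finset.card_univ, mul_comm 4]
  exact h1.trans (Nat.mul_le_mul_left _ h2)

end isom

end Cfsg.Agent.H172.IF
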