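import Cfsg.Agent.H172.IF.Hat
import Cfsg.Agent.H172.IF.Irr

/-!
# S5719, `PSp_4(q)`, `q` odd: point stabilisers of 2-rank one (helper172)

* `irr_kill` : `r` divides `q ^ 2 + 1`;
* `caseB1` : no point stabiliser of 2-rank one without involutions of type `t₁`.
-/

set_option autoImplicit false
set_option linter.unusedSectionVars false

namespace Cfsg.Agent.H172.IF

open Subgroup Module Cfsg.Agent.H74.Psp Cfsg.Agent.H209.Fxy Cfsg.Agent.H804.P4
open Cfsg.Agent.H172.Cov (Pr)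

variable {F V T : Type} [Field F] [Finite F] [AddCommGroup V] [Module F V] [Finite V] [Group T] [Finite T]
  {B : V →ₗ[F] V →ₗ[F] F} {π : Sp B →* T} {A : Subgroup T} {Γ : Subgroup (MulAut T)} {r : ℕ} {R : Subgroup T}

/-- the lifts of a subgroup -/
theorem card_comap (C : Ctx π) (A : Subgroup T) : Nat.card (A.comap π) = 2 * Nat.card A := by
  have h1 : (A.comap π).index = A.index := Subgroup.index_comap_of_surjective A C.surj
  have h2 : Nat.card (Sp B) = 2 * Nat.card T := by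
    rw [Subgroup.card_eq_card_quotient_mul_card_subgroup π.ker,
      Nat.card_congr (QuotientGroup.quotientKerEquivOfSurjective π C.surj).toEquiv, mul_comm]
    congr 1
    have h3 : (π.ker : Set (Sp B)) = {1, negOne B} := by
      ext g
      rw [SetLike.mem_coe, MonoidHom.mem_ker, Set.mem_insert_iff, Set.mem_singleton_iff]
      constructor
      · exact C.ker g
      · rintro (rfl | rfl)
        · exact map_one π
        · exact C.neg
    have h4 : Nat.card π.ker = (π.ker : Set (Sp B)).ncard := rfl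
    rw [h4, h3, Set.ncard_pair C.negOne_ne.symm]
  have h3 := (A.comap π).index_mul_card
  have h4 := A.index_mul_card
  have h5 : 0 < A.index := Nat.pos_of_ne_zero Subgroup.index_ne_zero_of_finite
  rw [h1, h2, ← h4] at h3
  apply Nat.eq_of_mul_eq_mul_left h5
  rw [h3]
  ring

/-- arithmetic of a primitive divisor of `q ^ 4 - 1` -/
theorem pr_four {q r : ℕ} (hq : 1 ≤ q) (hr : r.Prime) (hodd : Odd r) (hd : r ∣ q * q + 1) : Pr q r 4 := by
  have h2 : ¬ r ∣ 2 := by
    intro h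
    have h3 := (Nat.prime_dvd_prime_iff_eq hr Nat.prime_two).1 h
    rw [h3] at hodd
    exact absurd hodd (by decide)
  have hcop : r.Coprime q := by
    rw [Nat.Prime.coprime_iff_not_dvd hr]
    intro h
    have h3 : r ∣ 1 := (Nat.dvd_add_right (dvd_mul_of_dvd_left h q)).1 hd
    exact hr.one_lt.ne' (Nat.dvd_one.1 h3)
  obtain ⟨k, rfl⟩ : ∃ k, q = k + 1 := ⟨q - 1, by omega⟩
  have e2 : (k + 1) ^ 2 - 1 = k * (k + 2) := by
    have : (k + 1) ^ 2 = k * (k + 2) + 1 := by ring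
    omega
  have n2 : ¬ r ∣ (k + 1) ^ 2 - 1 := by
    intro h
    apply h2
    have h3 : (k + 1) * (k + 1) + 1 = ((k + 1) ^ 2 - 1) + 2 := by
      rw [e2]; ring
    rw [h3] at hd
    exact (Nat.dvd_add_right h).1 hd
  have n1 : ¬ r ∣ k := fun h => n2 (by rw [e2]; exact dvd_mul_of_dvd_left h _)
  refine ⟨hr, hcop, by norm_num, ?_, ?_⟩
  · have e4 : (k + 1) ^ 4 - 1 = ((k + 1) * (k + 1) + 1) * (k * (k + 2)) := by
      have : (k + 1) ^ 4 = ((k + 1) * (k + 1) + 1) * (k * (k + 2)) + 1 := by ring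
      omega
    rw [e4]
    exact dvd_mul_of_dvd_left hd _
  · intro i h1 h4 hdi
    interval_cases i
    · rw [pow_one, Nat.add_sub_cancel] at hdi
      exact n1 hdi
    · exact n2 hdi
    · -- `q ^ 3 = 1`, `q ^ 2 = -1`
      have e3 : (k + 1) ^ 3 - 1 = k * (k ^ 2 + 3 * k + 3) := by
        have : (k + 1) ^ 3 = k * (k ^ 2 + 3 * k + 3) + 1 := by ring
        omega
      rw [e3] at hdi
      rcases (Nat.Prime.dvd_mul hr).1 hdi with h | h
      · exact n1 h
      · -- `r ∣ k² + 3k + 3`, `r ∣ k² + 2k + 2`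
        have e5 : k ^ 2 + 3 * k + 3 = ((k + 1) * (k + 1) + 1) + (k + 1) := by ring
        rw [e5] at h
        have h6 : r ∣ k + 1 := (Nat.dvd_add_right hd).1 h
        have h7 : r ∣ 1 := (Nat.dvd_add_right (dvd_mul_of_dvd_left h6 _)).1 hd
        exact hr.one_lt.ne' (Nat.dvd_one.1 h7)

/-- the final inequality -/
theorem numerics {q c k ρ N : ℕ} (hq : 3 ≤ q) (hN : 2 * N = q ^ 4 * ((q ^ 2 - 1) * (q ^ 4 - 1)))
    (hc : q * (q ^ 2 - 1) * (q - 1) ≤ 2 * c) (hk : 5 * k ≤ 2 * (q * q + 1)) (h1 : c ≤ ρ * k) (h2 : ρ ^ 5 * c < N) :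
    False := by
  obtain ⟨m, rfl⟩ : ∃ m, q = m + 3 := ⟨q - 3, by omega⟩
  have e1 : (m + 3) ^ 2 - 1 = (m + 2) * (m + 4) := by
    have : (m + 3) ^ 2 = (m + 2) * (m + 4) + 1 := by ring
    omega
  have e2 : (m + 3) ^ 4 - 1 = (m + 2) * (m + 4) * ((m + 3) * (m + 3) + 1) := by
    have : (m + 3) ^ 4 = (m + 2) * (m + 4) * ((m + 3) * (m + 3) + 1) + 1 := by ring
    omega
  have e3 : m + 3 - 1 = m + 2 := rfl
  rw [e1, e2] at hN
  rw [e1, e3] at hc
  set S := (m + 3) * (m + 3) + 1 with hS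
  set D := (m + 2) * (m + 4) with hD
  -- `c ^ 6 < k ^ 5 N`
  have h3 : c ^ 6 < k ^ 5 * N ∨ c = 0 := by
    rcases Nat.eq_zero_or_pos c with h | h
    · exact Or.inr h
    left
    have hk0 : 0 < k := by
      rcases Nat.eq_zero_or_pos k with h' | h'
      · rw [h', mul_zero] at h1; omega
      · exact h'
    calc c ^ 6 = c ^ 5 * c := by ring
      _ ≤ (ρ * k) ^ 5 * c := Nat.mul_le_mul_right _ (Nat.pow_le_pow_left h1 5)
      _ = k ^ 5 * (ρ ^ 5 * c) := by ring
      _ < k ^ 5 * N := Nat.mul_lt_mul_of_pos_left h2 (by positivity)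
  have hc0 : 0 < c := by
    have : 0 < (m + 3) * D * (m + 2) := by positivity
    omega
  have h4 : c ^ 6 < k ^ 5 * N := h3.resolve_right (by omega)
  -- multiply out
  have h5 : (5 ^ 5 * ((m + 3) * D * (m + 2)) ^ 6) < 1024 * S ^ 6 * ((m + 3) ^ 4 * D ^ 2) := by
    calc 5 ^ 5 * ((m + 3) * D * (m + 2)) ^ 6 ≤ 5 ^ 5 * (2 * c) ^ 6 :=
          Nat.mul_le_mul_left _ (Nat.pow_le_pow_left hc 6)
      _ = 5 ^ 5 * 64 * c ^ 6 := by ring
      _ < 5 ^ 5 * 64 * (k ^ 5 * N) := Nat.mul_lt_mul_of_pos_left h4 (by norm_num)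
      _ = 32 * (5 * k) ^ 5 * (2 * N) := by ring
      _ ≤ 32 * (2 * S) ^ 5 * (2 * N) := Nat.mul_le_mul_right _ (Nat.mul_le_mul_left _ (Nat.pow_le_pow_left hk 5))
      _ = 1024 * S ^ 6 * ((m + 3) ^ 4 * D ^ 2) := by rw [hN]; ring
  -- the opposite inequality
  have h6 : 4 * S ≤ 5 * D := by
    rw [hS, hD]
    nlinarith
  have h7 : S ≤ (m + 3) * (m + 2) ^ 3 := by
    rw [hS]
    nlinarith [Nat.zero_le m, Nat.zero_le (m ^ 2), Nat.zero_le (m ^ 3)]
  have h8 : 1024 * S ^ 6 * ((m + 3) ^ 4 * D ^ 2) ≤ 5 ^ 5 * ((m + 3) * D * (m + 2)) ^ 6 := by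
    have h9 : 256 * S ^ 4 ≤ 625 * D ^ 4 := by
      have := Nat.pow_le_pow_left h6 4
      calc 256 * S ^ 4 = (4 * S) ^ 4 := by ring
        _ ≤ (5 * D) ^ 4 := this
        _ = 625 * D ^ 4 := by ring
    have h10 : S ^ 2 ≤ (m + 3) ^ 2 * (m + 2) ^ 6 := by
      calc S ^ 2 ≤ ((m + 3) * (m + 2) ^ 3) ^ 2 := Nat.pow_le_pow_left h7 2
        _ = _ := by ring
    calc 1024 * S ^ 6 * ((m + 3) ^ 4 * D ^ 2) = 4 * ((256 * S ^ 4) * S ^ 2) * ((m + 3) ^ 4 * D ^ 2) := by ring
      _ ≤ 4 * ((625 * D ^ 4) * ((m + 3) ^ 2 * (m + 2) ^ 6)) * ((m + 3) ^ 4 * D ^ 2) :=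
          Nat.mul_le_mul_right _ (Nat.mul_le_mul_left _ (Nat.mul_le_mul h9 h10))
      _ = 2500 * ((m + 3) * D * (m + 2)) ^ 6 := by ring
      _ ≤ _ := Nat.mul_le_mul_right _ (by norm_num)
  omega

theorem odd_card (h2 : (2 : F) ≠ 0) : Odd (Nat.card F) := by
  have := Fintype.ofFinite F
  rw [Nat.card_eq_fintype_card, Nat.odd_iff]
  apply FiniteField.odd_card_of_char_ne_two
  intro h
  apply h2
  have h3 : ((2 : ℕ) : F) = 0 := by rw [← h]; exact ringChar.Nat.cast_ringChar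
  exact_mod_cast h3

theorem finrank_eq (C : Ctx π) : finrank F V = 4 := by
  have h1 : Nat.card V = Nat.card F ^ finrank F V := Module.natCard_eq_pow_finrank
  rw [C.hV] at h1
  exact (Nat.pow_right_injective (show 2 ≤ Nat.card F from Finite.one_lt_card) h1).symm

/-- **`r` divides `q ^ 2 + 1`** -/
theorem irr_kill [IsSimpleGroup T] (C : Ctx π) (h : IF A Γ) (hna : ∃ a b : T, a * b ≠ b * a) (E : Ea r R) (hRA : R ≤ A)
    (hR : R ≠ ⊥) (hinv : ∀ σ ∈ Γ, ∀ x ∈ R, σ x ∈ R) (hr : r ∣ Nat.card F * Nat.card F + 1) {j : Sp B}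
    (hj : j * j = negOne B) (hjA : π j ∈ A)
    (hcen : Nat.card F * (Nat.card F ^ 2 - 1) * (Nat.card F - 1) ≤ 2 * Nat.card (centralizer ({π j} : Set T))) :
    False := by
  classical
  have hAR : ∀ a ∈ A, ∀ x ∈ R, a * x * a⁻¹ ∈ R := fun a ha x hx => hinv _ ((h.conj a).2 ha) x hx
  have hqo : Odd (Nat.card F) := odd_card C.h2
  have hq1 : 1 < Nat.card F := Finite.one_lt_card
  have hq3 : 3 ≤ Nat.card F := by
    obtain ⟨k, hk⟩ := hqo
    omega
  have hd := finrank_eq C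
  have hnt : Nontrivial V := by
    rw [← Finite.one_lt_card_iff_nontrivial, C.hV]
    exact Nat.one_lt_pow (by norm_num) hq1
  have P : Pr (Nat.card F) r 4 := pr_four hq1.le E.prime E.odd hr
  -- every element is irreducible
  have hI : ∀ x ∈ hat C E, x ≠ 1 → (∀ W : Submodule F V, (∀ w ∈ W, en x w ∈ W) → W = ⊥ ∨ W = ⊤) ∧
      x ^ (Nat.card F * Nat.card F + 1) = 1 := by
    intro x hx hx1
    refine ⟨fun W hW => irr P (x := en x) ?_ ?_ hd hW, ?_⟩
    · rw [← map_pow, hx.2, map_one]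
    · intro h1
      apply hx1
      apply en_injective
      rw [h1, map_one]
    · obtain ⟨m, hm⟩ := hr
      rw [hm, pow_mul, hx.2, one_pow]
  -- a nontrivial element
  obtain ⟨x, hx, hx1⟩ : ∃ x ∈ hat C E, x ≠ 1 := by
    by_contra! hcon
    exact hat_ne_bot C E hR ((Subgroup.eq_bot_iff_forall _).2 hcon)
  obtain ⟨hirr, hxq⟩ := hI x hx hx1
  have h1 := card_norm hnt C.hB hirr hxq hd (M := A.comap π) (by
    intro g hg
    exact hat_comm C E (hat_conj C E (hAR _ hg) hx) hx)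
  rw [card_comap C] at h1
  have h2 : Nat.card A ≤ 2 * (Nat.card F * Nat.card F + 1) := by omega
  -- the centraliser of `π j` in `R`
  have hfree : ∀ y ∈ R, y * π j = π j * y → y = 1 := by
    intro y hy hc
    by_contra hy1
    obtain ⟨g, hg, rfl⟩ := exists_hat C E hy
    have hg1 : g ≠ 1 := fun h' => hy1 (by rw [h', map_one])
    obtain ⟨hirr', hgq⟩ := hI g hg hg1
    have h3 : j * g = g * j := comm_lift C E.odd hg.2 hc.symm
    have h4 := pow_eq_one hnt C.hB hirr' hgq h3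
    obtain ⟨k, hk⟩ := hqo
    have h5 : Nat.card F * Nat.card F + 1 = 2 * (2 * (k * k + k) + 1) := by rw [hk]; ring
    rw [h5, pow_mul, pow_two, hj, pow_succ, pow_mul, pow_two, negOne_mul_self, one_pow, one_mul] at h4
    exact C.negOne_ne h4
  -- `5 ≤ |R|`
  have hR5 : 5 ≤ Nat.card R := by
    have h3 : r ∣ Nat.card R := by
      have hntR : Nontrivial R := (Subgroup.nontrivial_iff_ne_bot R).2 hR
      obtain ⟨y, hy⟩ := exists_ne (1 : R)
      have hyr : y ^ r = 1 := Subtype.ext (E.exp y y.2)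
      have h4 : orderOf y = r := by
        have : Fact r.Prime := ⟨E.prime⟩
        exact orderOf_eq_prime hyr hy
      rw [← h4]
      exact orderOf_dvd_natCard y
    have h4 : 5 ≤ r := by
      have h5 := E.prime.two_le
      by_contra! hlt
      have h6 : r = 3 := by
        have h7 := E.odd
        interval_cases r
        · exact absurd h7 (by decide)
        · rfl
        · exact absurd h7 (by decide)
      rw [h6] at hr
      have h8 : Nat.card F % 3 = 0 ∨ Nat.card F % 3 = 1 ∨ Nat.card F % 3 = 2 := by omega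
      have h9 : (Nat.card F * Nat.card F + 1) % 3 = 0 := Nat.mod_eq_zero_of_dvd hr
      rcases h8 with h8 | h8 | h8 <;> simp [Nat.add_mod, Nat.mul_mod, h8] at h9
    exact h4.trans (Nat.le_of_dvd Nat.card_pos h3)
  -- `|R| |A ∩ C| ≤ |A|`
  let K : Subgroup T := A ⊓ centralizer ({π j} : Set T)
  have hK : ∀ y ∈ K, y * π j = π j * y := fun y hy => Subgroup.mem_centralizer_singleton_iff.1 hy.2
  have h3 : Nat.card R * Nat.card K ≤ Nat.card A := by
    rw [← Nat.card_prod]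
    refine Nat.card_le_card_of_injective (fun p : R × K => (⟨(p.1 : T) * (p.2 : T), A.mul_mem (hRA p.1.2) p.2.2.1⟩ : A)) ?_
    rintro ⟨a, b⟩ ⟨a', b'⟩ hab
    have h4 : (a : T) * b = a' * b' := congrArg Subtype.val hab
    have h5 : (a' : T)⁻¹ * a = b' * (b : T)⁻¹ := by
      rw [eq_mul_inv_iff_mul_eq, mul_assoc, h4, inv_mul_cancel_left]
    have h6 : (a' : T)⁻¹ * a = 1 := by
      apply hfree _ (R.mul_mem (R.inv_mem a'.2) a.2)
      rw [h5]
      exact hK _ (K.mul_mem b'.2 (K.inv_mem b.2))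
    have h7 : a = a' := Subtype.ext (inv_mul_eq_one.1 h6).symm
    rw [h6, eq_comm, mul_inv_eq_one] at h5
    exact Prod.ext h7 (Subtype.ext h5).symm
  have h4 : 5 * Nat.card K ≤ 2 * (Nat.card F * Nat.card F + 1) :=
    (Nat.mul_le_mul_right _ hR5).trans (h3.trans h2)
  -- the index
  obtain ⟨-, -, -, -, h5⟩ := Cfsg.Agent.H999.IFB.IF.E2' h hna hjA (C.orderOf_j hj)
  obtain ⟨h6, -⟩ := h5 (centralizer ({π j} : Set T)) le_rfl
  have h7 := (centralizer ({π j} : Set T)).index_mul_card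
  have h8 : Nat.card (centralizer ({π j} : Set T)) ≤ A.relIndex (centralizer ({π j} : Set T)) * Nat.card K := by
    have h10 : Nat.card (centralizer ({π j} : Set T)) =
        (A.subgroupOf (centralizer ({π j} : Set T))).index * Nat.card (A.subgroupOf (centralizer ({π j} : Set T))) :=
      (Subgroup.index_mul_card _).symm
    rw [h10, Subgroup.relIndex]
    apply Nat.mul_le_mul_left
    refine Nat.card_le_card_of_injective (fun a : A.subgroupOf (centralizer ({π j} : Set T)) =>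
      (⟨((a : centralizer ({π j} : Set T)) : T), a.2, (a : centralizer ({π j} : Set T)).2⟩ : K)) ?_
    intro a b hab
    have h11 : ((a : centralizer ({π j} : Set T)) : T) = ((b : centralizer ({π j} : Set T)) : T) :=
      congrArg (fun z : K => (z : T)) hab
    exact Subtype.ext (Subtype.ext h11)
  have hN : 2 * Nat.card T = Nat.card F ^ 4 * ((Nat.card F ^ 2 - 1) * (Nat.card F ^ 4 - 1)) := by
    rw [← C.card, ← Subgroup.card_top (G := T), ← card_comap C, Subgroup.comap_top, Subgroup.card_top]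
  exact numerics hq3 hN hcen h4 h8 (by
    rw [← h7]
    exact Nat.mul_lt_mul_of_pos_right h6 Nat.card_pos)

/-- `T` is not abelian -/
theorem not_comm [IsSimpleGroup T] (h : IF A Γ) : ∃ a b : T, a * b ≠ b * a := by
  by_contra! hcon
  have h1 : A.Normal := ⟨fun n hn g => by rw [hcon g n, mul_inv_cancel_right]; exact hn⟩
  rcases h1.eq_bot_or_eq_top with h2 | h2
  · exact h.ne_bot h2
  · exact h.ne_top h2

/-- **No point stabiliser of 2-rank one without involutions of type `t₁`.** -/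
theorem caseB1 [IsSimpleGroup T] (C : Ctx π) (hsemi : SemiAut π) (hcen : ∀ j : Sp B, j * j = negOne B →
      Nat.card F * (Nat.card F ^ 2 - 1) * (Nat.card F - 1) ≤ 2 * Nat.card (centralizer ({π j} : Set T)))
    (h : IF A Γ) (hno : ∀ v v' : V, B v v' = 1 → π (inv2 B v v') ∉ A)
    (hone : ∀ s ∈ A, ∀ t ∈ A, orderOf s = 2 → orderOf t = 2 → s * t = t * s → s = t) {t : T} (ht : t ∈ A)
    (ht2 : orderOf t = 2) : False := by
  have hna := not_comm h
  rcases C.inv_type ht2 with ⟨v, v', hv, rfl⟩ | ⟨j, hj, rfl⟩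
  · exact hno v v' hv ht
  · rcases rank_one h hna hone ht ht2 with h1 | ⟨r, R, h1, h2, h3, h4, h5, h6, h7⟩
    · exact cent_kill C hno hj h1
    · have E : Ea r R := ⟨h1, h2, h5, h6⟩
      by_cases hr1 : r ∣ Nat.card F
      · exact semi_kill C h hno hsemi E h4 h7 hr1
      · by_cases hr2 : r ∣ Nat.card F * Nat.card F + 1
        · exact irr_kill C h hna E h3 h4 h7 hr2 hj ht (hcen j hj)
        · exact plane_kill C h hno E h3 h4 h7 hr1 hr2

end Cfsg.Agent.H172.IF
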